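import Mathlib.Algebra.Category.ModuleCat.Sheaf.ChangeOfRings
import Mathlib.Algebra.Category.ModuleCat.Sheaf.Colimits
import Mathlib.Algebra.Category.ModuleCat.Presheaf.Colimits
import Mathlib.Algebra.Category.ModuleCat.Presheaf.Sheafification
import Mathlib.Algebra.Category.ModuleCat.Sheaf.Limits
import Mathlib.Algebra.Category.ModuleCat.Sheaf.Abelian

/-! Restriction of scalars of sheaves of modules is faithful and exact and commutes with colimits. -/

namespace Groth.Agent.QCOverAlg

open CategoryTheory CategoryTheory.Limits

universe w' w v v' u' u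

variable {C : Type u'} [Category.{v'} C] {J : GrothendieckTopology C}
  [HasSheafify J AddCommGrpCat.{u}] [J.WEqualsLocallyBijective AddCommGrpCat.{u}]
  {R R' : Sheaf J RingCat.{u}} (α : R ⟶ R')

variable (R) in
theorem preservesColimitsOfShape_toSheaf (K : Type w) [Category.{w'} K]
    [HasColimitsOfShape K AddCommGrpCat.{u}] [HasColimitsOfShape K (PresheafOfModules.{u} R.obj)]
    [PreservesColimitsOfShape K (PresheafOfModules.toPresheaf.{u} R.obj)] :
    PreservesColimitsOfShape K (SheafOfModules.toSheaf.{u} R) where
  preservesColimit {F} := by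
    let S := PresheafOfModules.sheafification.{u} (𝟙 R.obj)
    let e : (F ⋙ SheafOfModules.forget R) ⋙ S ≅ F :=
      Functor.isoWhiskerLeft F (asIso (PresheafOfModules.sheafificationAdjunction (𝟙 R.obj)).counit)
    haveI : PreservesColimitsOfShape K (presheafToSheaf J AddCommGrpCat.{u}) :=
      (sheafificationAdjunction J AddCommGrpCat.{u}).leftAdjoint_preservesColimits.preservesColimitsOfShape
    haveI : PreservesColimitsOfShape K S :=
      (PresheafOfModules.sheafificationAdjunction (𝟙 R.obj)).leftAdjoint_preservesColimits.preservesColimitsOfShape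
    haveI hcomp : PreservesColimitsOfShape K (S ⋙ SheafOfModules.toSheaf R) :=
      inferInstanceAs (PreservesColimitsOfShape K (PresheafOfModules.toPresheaf R.obj ⋙ presheafToSheaf J AddCommGrpCat.{u}))
    have : PreservesColimit ((F ⋙ SheafOfModules.forget R) ⋙ S) (SheafOfModules.toSheaf R) := by
      refine preservesColimit_of_preserves_colimit_cocone
        (isColimitOfPreserves S (colimit.isColimit (F ⋙ SheafOfModules.forget R))) ?_
      exact isColimitOfPreserves (S ⋙ SheafOfModules.toSheaf R) (colimit.isColimit (F ⋙ SheafOfModules.forget R))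
    exact preservesColimit_of_iso_diagram _ e

theorem restrictScalars_comp_toSheaf :
    SheafOfModules.restrictScalars.{u} α ⋙ SheafOfModules.toSheaf R = SheafOfModules.toSheaf R' := rfl

instance restrictScalars_faithful : (SheafOfModules.restrictScalars.{u} α).Faithful :=
  Functor.Faithful.of_comp_eq (restrictScalars_comp_toSheaf α)

theorem preservesColimitsOfShape_restrictScalars (K : Type w) [Category.{w'} K]
    [HasColimitsOfShape K AddCommGrpCat.{u}] [HasColimitsOfShape K (PresheafOfModules.{u} R.obj)]
    [HasColimitsOfShape K (PresheafOfModules.{u} R'.obj)]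
    [PreservesColimitsOfShape K (PresheafOfModules.toPresheaf.{u} R.obj)]
    [PreservesColimitsOfShape K (PresheafOfModules.toPresheaf.{u} R'.obj)] :
    PreservesColimitsOfShape K (SheafOfModules.restrictScalars.{u} α) := by
  haveI := preservesColimitsOfShape_toSheaf R K
  haveI := preservesColimitsOfShape_toSheaf R' K
  haveI : PreservesColimitsOfShape K (SheafOfModules.restrictScalars.{u} α ⋙ SheafOfModules.toSheaf R) :=
    inferInstanceAs (PreservesColimitsOfShape K (SheafOfModules.toSheaf R'))
  haveI := reflectsColimitsOfShape_of_reflectsIsomorphisms (J := K) (G := SheafOfModules.toSheaf.{u} R)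
  exact preservesColimitsOfShape_of_reflects_of_preserves _ (SheafOfModules.toSheaf R)

instance restrictScalars_preservesFiniteLimits :
    PreservesFiniteLimits (SheafOfModules.restrictScalars.{u} α) := by
  haveI : PreservesFiniteLimits (SheafOfModules.restrictScalars.{u} α ⋙ SheafOfModules.toSheaf R) :=
    inferInstanceAs (PreservesFiniteLimits (SheafOfModules.toSheaf R'))
  exact preservesFiniteLimits_of_reflects_of_preserves _ (SheafOfModules.toSheaf R)

end Groth.Agent.QCOverAlg
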