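import Groth.Agent.QCOverAlg.Restrict
import Groth.Agent.QCohLib.Closure
import Groth.Agent.QCohLib.Cover
import Groth.Prelude.Def_Coh

/-! Quasi-coherent modules over a quasi-coherent algebra `B` on a scheme: `Psi φ U` sends
modules over `B|U` to `O_U`-modules; it is faithful, exact, and commutes with direct sums. -/

set_option linter.style.haveILetI false
set_option backward.isDefEq.respectTransparency false

namespace Groth.Agent.QCOverAlg

open AlgebraicGeometry CategoryTheory CategoryTheory.Limits TopologicalSpace Opposite

universe u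

/-- Direct sums of quasi-coherent modules are quasi-coherent. -/
theorem isQuasicoherent_sigma {X : Scheme.{u}} {I : Type u} (M : I → X.Modules)
    (h : ∀ i, (M i).IsQuasicoherent) : (∐ M).IsQuasicoherent := by
  rw [QCohLib.isQuasicoherent_iff_affine]
  intro U
  let F := Scheme.Modules.restrictFunctor.{u} U.2.fromSpec
  haveI : PreservesColimitsOfSize.{u, u} F := inferInstance
  haveI : ∀ i, (F.obj (M i)).IsQuasicoherent := fun i => by
    haveI := h i
    exact (inferInstance : (QCohLib.onSpec (M i) U.2).IsQuasicoherent)
  let T := tilde.functor.{u} Γ(X, U.1)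
  haveI : PreservesColimitsOfSize.{u, u} T := (tilde.adjunction).leftAdjoint_preservesColimits
  let N : I → ModuleCat.{u} Γ(X, U.1) := fun i => (moduleSpecΓFunctor).obj (F.obj (M i))
  let e : ∀ i, T.obj (N i) ≅ F.obj (M i) := fun i =>
    haveI := (AlgebraicGeometry.isQuasicoherent_iff_isIso_fromTildeΓ (M := F.obj (M i))).mp inferInstance
    asIso (Scheme.Modules.fromTildeΓ _)
  haveI := QCohLib.isQuasicoherent_tilde_obj (∐ N)
  exact QCohLib.isQuasicoherent_of_iso
    (PreservesCoproduct.iso T N ≪≫ Sigma.mapIso e ≪≫ (PreservesCoproduct.iso F M).symm)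

variable {X : Scheme.{u}} {B : Sheaf (Opens.grothendieckTopology X) CommRingCat.{u}} (φ : X.sheaf ⟶ B)

/-- The sheaf of rings underlying `B`. -/
noncomputable abbrev ringSheaf (B : Sheaf (Opens.grothendieckTopology X) CommRingCat.{u}) :
    Sheaf (Opens.grothendieckTopology X) RingCat.{u} :=
  (sheafCompose (Opens.grothendieckTopology X) (forget₂ CommRingCat.{u} RingCat.{u})).obj B

/-- The map of sheaves of rings underlying `φ`. -/
noncomputable abbrev ringHom : X.ringCatSheaf ⟶ ringSheaf B :=
  (sheafCompose (Opens.grothendieckTopology X) (forget₂ CommRingCat.{u} RingCat.{u})).map φ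

/-- The map `O_X|U ⟶ B|U`. -/
noncomputable abbrev overHom (U : X.Opens) : X.ringCatSheaf.over U ⟶ (ringSheaf B).over U :=
  ((Over.forget U).sheafPushforwardContinuous RingCat.{u} _ _).map (ringHom φ)

/-- Modules over `B|U` as modules over `O_U`. -/
noncomputable def Psi (U : X.Opens) :
    SheafOfModules.{u} ((ringSheaf B).over U) ⥤ (U : Scheme.{u}).Modules :=
  SheafOfModules.restrictScalars.{u} (overHom φ U) ⋙ (Scheme.Modules.overEquiv U).functor

instance (U : X.Opens) : (Psi φ U).Faithful := by unfold Psi; infer_instance

instance (U : X.Opens) : PreservesFiniteLimits (Psi φ U) := by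
  unfold Psi; exact comp_preservesFiniteLimits _ _

instance (U : X.Opens) : PreservesColimitsOfSize.{u, u} (Psi φ U) where
  preservesColimitsOfShape {K} _ := by
    haveI := preservesColimitsOfShape_restrictScalars (overHom φ U) K
    unfold Psi
    infer_instance

instance (U : X.Opens) : PreservesFiniteColimits (Psi φ U) :=
  PreservesColimitsOfSize.preservesFiniteColimits _

/-- `Psi` of a restriction. -/
noncomputable def psiOverIso (F : SheafOfModules.{u} (ringSheaf B)) (U : X.Opens) :
    (Psi φ U).obj (F.over U) ≅
      Scheme.Modules.restrict ((SheafOfModules.restrictScalars (ringHom φ)).obj F : X.Modules) U.ι :=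
  (Scheme.Modules.overFunctorEquiv U).app ((SheafOfModules.restrictScalars (ringHom φ)).obj F)

variable (hB : Coh.IsQCoh ((SheafOfModules.restrictScalars (ringHom φ)).obj
  (SheafOfModules.unit (ringSheaf B))))

include hB in
theorem isQuasicoherent_psi_free (U : X.Opens) (I : Type u) :
    ((Psi φ U).obj (SheafOfModules.free I)).IsQuasicoherent := by
  haveI : ((Psi φ U).obj (SheafOfModules.unit ((ringSheaf B).over U))).IsQuasicoherent := by
    haveI := hB
    exact QCohLib.isQuasicoherent_of_iso (psiOverIso φ (SheafOfModules.unit (ringSheaf B)) U).symm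
  haveI := isQuasicoherent_sigma (fun _ : I => (Psi φ U).obj (SheafOfModules.unit ((ringSheaf B).over U)))
    fun _ => this
  exact QCohLib.isQuasicoherent_of_iso
    (PreservesCoproduct.iso (Psi φ U) (fun _ : I => SheafOfModules.unit ((ringSheaf B).over U))).symm

include hB in
/-- A module over `B|U` with a presentation is quasi-coherent over `O_U`. -/
theorem isQuasicoherent_psi_of_presentation {U : X.Opens} {M : SheafOfModules.{u} ((ringSheaf B).over U)}
    (P : M.Presentation) : ((Psi φ U).obj M).IsQuasicoherent := by
  haveI := isQuasicoherent_psi_free φ hB U P.generators.I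
  haveI := isQuasicoherent_psi_free φ hB U P.relations.I
  let g := (SheafOfModules.freeHomEquiv _).symm P.relations.s ≫ kernel.ι P.generators.π
  haveI := QCohLib.isQuasicoherent_cokernel ((Psi φ U).map g)
  let e : cokernel g ≅ M := (cokernelIsCokernel g).coconePointUniqueUpToIso P.isColimit
  exact QCohLib.isQuasicoherent_of_iso ((PreservesCokernel.iso (Psi φ U) g).symm ≪≫ (Psi φ U).mapIso e)

include hB in
/-- A quasi-coherent `B`-module is quasi-coherent over `O_X`. -/
theorem isQuasicoherent_restrictScalars (F : SheafOfModules.{u} (ringSheaf B)) (hF : F.IsQuasicoherent) :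
    Coh.IsQCoh ((SheafOfModules.restrictScalars (ringHom φ)).obj F) := by
  obtain ⟨⟨d⟩⟩ := hF
  refine QCohLib.isQuasicoherent_of_cover (ι := d.I) (Z := fun i => (d.X i : Scheme.{u}))
    (fun i => Scheme.Opens.ι (d.X i)) (fun x => ?_) fun i => ?_
  · have h := (Opens.coversTop_iff (U := d.X)).mp d.coversTop
    obtain ⟨i, hi⟩ := Opens.mem_iSup.mp (h.ge (Opens.mem_top x))
    exact ⟨i, by rw [Scheme.Opens.opensRange_ι]; exact hi⟩
  · haveI := isQuasicoherent_psi_of_presentation φ hB (d.presentation i)
    exact QCohLib.isQuasicoherent_of_iso (psiOverIso φ F (d.X i))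

/-- All global sections generate, if the module is quasi-coherent over an affine open. -/
noncomputable def allSections {U : X.Opens} (hU : IsAffineOpen U)
    (M : SheafOfModules.{u} ((ringSheaf B).over U)) (hM : ((Psi φ U).obj M).IsQuasicoherent) :
    M.GeneratingSections where
  I := M.sections
  s := id
  epi := by
    refine (Psi φ U).epi_of_epi_map ?_
    haveI := hM
    haveI : IsAffine (U : Scheme.{u}) := hU
    refine QCohLib.epi_of_cover_surjective (ι := PUnit.{u + 1}) (fun _ => (⊤ : (U : Scheme.{u}).Opens))
      (fun _ => isAffineOpen_top _) (fun _ => ⟨PUnit.unit, trivial⟩) _ fun _ t => ?_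
    let T := (Opens.overEquivalence U).inverse.obj (⊤ : TopologicalSpace.Opens U)
    let toT : ∀ V : Over U, V ⟶ T := fun V => Over.homMk (homOfLE (by
      rintro x hx
      exact ⟨⟨x, leOfHom V.hom hx⟩, trivial, rfl⟩))
    let t' : M.val.obj (op T) := t
    let s : M.sections := PresheafOfModules.sectionsMk (fun V => M.val.map (toT V.unop).op t') (by
      intro V W f
      refine (LinearMap.congr_fun (congrArg ModuleCat.Hom.hom (M.val.map_comp (toT V.unop).op f)) t').symm.trans ?_
      rw [show (toT V.unop).op ≫ f = (toT W.unop).op from Quiver.Hom.unop_inj (Over.OverMorphism.ext (Subsingleton.elim _ _))])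
    refine ⟨((SheafOfModules.freeSection (R := (ringSheaf B).over U) (I := M.sections) s).val (op T) : (SheafOfModules.free M.sections).val.obj (op T)), ?_⟩
    change (M.freeHomEquiv.symm (id : M.sections → M.sections)).val.app (op T) ((SheafOfModules.freeSection s).val (op T)) = t'
    have h := congrArg (fun z : M.sections => z.val (op T))
      (SheafOfModules.sectionsMap_freeHomEquiv_symm_freeSection (id : M.sections → M.sections) s)
    refine h.trans ?_
    change M.val.map (toT T).op t' = t'
    rw [show (toT T).op = 𝟙 (op T) from Quiver.Hom.unop_inj (Over.OverMorphism.ext (Subsingleton.elim _ _))]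
    exact LinearMap.congr_fun (congrArg ModuleCat.Hom.hom (M.val.map_id _)) t'

include hB in
/-- A `B`-module quasi-coherent over `O_X` is quasi-coherent over `B`. -/
theorem isQuasicoherent_of_restrictScalars (F : SheafOfModules.{u} (ringSheaf B))
    (hF : Coh.IsQCoh ((SheafOfModules.restrictScalars (ringHom φ)).obj F)) : F.IsQuasicoherent := by
  haveI := hF
  have hFU : ∀ U : X.affineOpens, ((Psi φ U.1).obj (F.over U.1)).IsQuasicoherent := fun U =>
    QCohLib.isQuasicoherent_of_iso (psiOverIso φ F U.1).symm
  refine SheafOfModules.QuasicoherentData.isQuasicoherent (M := F)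
    { I := X.affineOpens
      X := fun U => U.1
      coversTop := ?_
      presentation := fun U =>
        { generators := allSections φ U.2 (F.over U.1) (hFU U)
          relations := allSections φ U.2 _ ?_ } }
  · rw [Opens.coversTop_iff, IsOpenCover, eq_top_iff]
    intro x _
    obtain ⟨U, hU⟩ := QCohLib.exists_affine_mem x
    exact Opens.mem_iSup.mpr ⟨U, hU⟩
  · haveI := hFU U
    haveI := isQuasicoherent_psi_free φ hB U.1 (allSections φ U.2 (F.over U.1) (hFU U)).I
    haveI := QCohLib.isQuasicoherent_kernel ((Psi φ U.1).map (allSections φ U.2 (F.over U.1) (hFU U)).π)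
    exact QCohLib.isQuasicoherent_of_iso (PreservesKernel.iso (Psi φ U.1) _).symm

end Groth.Agent.QCOverAlg
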